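import Cfsg.Agent.H100.IF.Four
import Cfsg.Agent.H520.IF.Tri
import Cfsg.Agent.H601.IF.NegFour
import Cfsg.Agent.H989.Fx.Cls
import Cfsg.Agent.H680.IF.EngA

/-!
# S5719, orthogonal groups in dimension 7: `A` contains a second fundamental involution (helper100)

* `exists_tri` : a three space of Witt index one orthogonal to a quadruple;
* `exists_sq` : an element of `SL₂` of square `-1`;
* `unique_fund` : box 7d.
-/

set_option autoImplicit false
set_option linter.unusedSectionVars false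

namespace Cfsg.Agent.H100.IF

open QuadraticMap Matrix Module
open Cfsg.Agent.LieClassical.OrthCore Cfsg.Agent.LieClassical.OrthTrans
open Cfsg.Agent.H989.Gs.Gen
open Cfsg.Agent.UGT.U2.FOne.Orth (Four tl)
open Cfsg.Agent.H198.IF
open Cfsg.Agent.H520.IF (Tri)
open Cfsg.Agent.H989.Fx (Fund)
open Cfsg.Agent.H209.Fxy (IF)

variable {F V : Type*} [Field F] [AddCommGroup V] [Module F V] {Q : QuadraticForm F V} {e₁ f₁ e₂ f₂ : V}

/-- six linear conditions have a nonzero solution in dimension at least seven, and even a nonsingular one -/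
theorem exists_nonsing [FiniteDimensional F V] (hQ : Nondeg Q) (hN : 7 ≤ finrank F V) {e f : Fin 3 → V}
    (h : HS Q e f) : ∃ a, Q a ≠ 0 ∧ (∀ i, polar Q (e i) a = 0) ∧ ∀ i, polar Q (f i) a = 0 := by
  obtain ⟨L, hL⟩ : ∃ L : V →ₗ[F] (Fin 3 → F) × (Fin 3 → F), ∀ v, L v = (fun i => polar Q (e i) v, fun i => polar Q (f i) v) :=
    ⟨(LinearMap.pi fun i => polarBilin Q (e i)).prod (LinearMap.pi fun i => polarBilin Q (f i)), fun v => rfl⟩
  have hker : ∃ a, a ≠ 0 ∧ L a = 0 := by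
    by_contra hc
    push Not at hc
    have hinj : Function.Injective L := (injective_iff_map_eq_zero L).2 fun a ha => by
      by_contra h0
      exact hc a h0 ha
    have := LinearMap.finrank_le_finrank_of_injective hinj
    rw [Module.finrank_prod, Module.finrank_pi] at this
    simp at this
    omega
  obtain ⟨a, h0, ha⟩ := hker
  rw [hL] at ha
  have ha1 : ∀ i, polar Q (e i) a = 0 := fun i => congrFun (congrArg Prod.fst ha) i
  have ha2 : ∀ i, polar Q (f i) a = 0 := fun i => congrFun (congrArg Prod.snd ha) i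
  by_cases hq : Q a = 0
  swap
  · exact ⟨a, hq, ha1, ha2⟩
  obtain ⟨y, hy⟩ := hQ.exists_polar_eq h0 1
  obtain ⟨y₁, hy₁⟩ : ∃ y₁, y₁ = y - cb e (cx Q f y) - cb f (cx Q e y) := ⟨_, rfl⟩
  have hcx : cx Q e a = 0 := funext ha1
  have hcx' : cx Q f a = 0 := funext ha2
  have h1 : polar Q a y₁ = 1 := by
    rw [hy₁, polar_sub_right, polar_sub_right, polar_cb, polar_cb, hcx, hcx', dotProduct_zero, dotProduct_zero,
      hy, sub_zero, sub_zero]
  have h2 : cx Q e y₁ = 0 := by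
    have : y₁ = y + (-1 : F) • cb e (cx Q f y) + (-1 : F) • cb f (cx Q e y) := by rw [hy₁]; module
    rw [this, cx_add, cx_add, cx_smul, cx_smul, h.cx_ee, h.symm.cx_fe]
    funext i
    simp
  have h3 : cx Q f y₁ = 0 := by
    have : y₁ = y + (-1 : F) • cb e (cx Q f y) + (-1 : F) • cb f (cx Q e y) := by rw [hy₁]; module
    rw [this, cx_add, cx_add, cx_smul, cx_smul, h.cx_fe, h.symm.cx_ee]
    funext i
    simp
  refine ⟨y₁ + (1 - Q y₁) • a, ?_, fun i => ?_, fun i => ?_⟩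
  · have : Q (y₁ + (1 - Q y₁) • a) = 1 := by
      have e1 : Q (y₁ + (1 - Q y₁) • a) = Q y₁ + Q ((1 - Q y₁) • a) + polar Q y₁ ((1 - Q y₁) • a) := by
        rw [QuadraticMap.polar]; ring
      rw [e1, QuadraticMap.map_smul, hq, polar_smul_right, polar_comm, h1]
      simp
    rw [this]
    exact one_ne_zero
  · rw [polar_add_right, polar_smul_right, ha1, smul_zero, add_zero]
    exact congrFun h2 i
  · rw [polar_add_right, polar_smul_right, ha2, smul_zero, add_zero]
    exact congrFun h3 i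

/-- the six conditions, for a quadruple and a three space -/
theorem exists_tri [Finite F] [FiniteDimensional F V] (hQ : Nondeg Q) (hN : 7 ≤ finrank F V)
    (h4 : Four Q e₁ f₁ e₂ f₂) : ∃ a e f, Tri Q a e f ∧ (polar Q e₁ a = 0 ∧ polar Q f₁ a = 0 ∧ polar Q e₂ a = 0 ∧
      polar Q f₂ a = 0) ∧ (polar Q e₁ e = 0 ∧ polar Q f₁ e = 0 ∧ polar Q e₂ e = 0 ∧ polar Q f₂ e = 0) ∧
      (polar Q e₁ f = 0 ∧ polar Q f₁ f = 0 ∧ polar Q e₂ f = 0 ∧ polar Q f₂ f = 0) := by
  obtain ⟨x, y, hxy, p1, p2, p3, p4⟩ := (HS.of_four h4).exists_hyp hQ (by omega)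
  obtain ⟨a, ha, a1, a2⟩ := exists_nonsing hQ hN ((HS.of_four h4).cons hxy p1 p2 p3 p4)
  exact ⟨a, x, y, ⟨hxy, polar_zero_of_comm (a1 0), polar_zero_of_comm (a2 0), ha⟩, ⟨a1 1, a2 1, a1 2, a2 2⟩,
    ⟨p1 0, p2 0, p1 1, p2 1⟩, ⟨p3 0, p4 0, p3 1, p4 1⟩⟩

theorem exists_sq (F : Type*) [Field F] : ∃ c : SpecialLinearGroup (Fin 2) F, c * c = neg₂ F := by
  refine ⟨⟨!![0, 1; -1, 0], by simp⟩, Subtype.ext ?_⟩
  change !![0, 1; -1, 0] * !![0, 1; -1, 0] = (-1 : Matrix (Fin 2) (Fin 2) F)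
  ext i j
  fin_cases i <;> fin_cases j <;> simp

/-- the class of an automorphic image of a fundamental involution in dimension seven -/
theorem index_aut {T : Type*} [Group T] (σ : MulAut T) (z : T) :
    (Subgroup.centralizer ({σ z} : Set T)).index = (Subgroup.centralizer ({z} : Set T)).index := by
  have h1 : Subgroup.centralizer ({σ z} : Set T) = (Subgroup.centralizer ({z} : Set T)).map σ.toMonoidHom := by
    ext x
    rw [Subgroup.mem_centralizer_singleton_iff, Subgroup.mem_map]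
    constructor
    · intro hx
      refine ⟨σ⁻¹ x, ?_, ?_⟩
      · rw [Subgroup.mem_centralizer_singleton_iff]
        apply σ.injective
        rw [map_mul, map_mul, MulAut.apply_inv_self]
        exact hx
      · exact MulAut.apply_inv_self _ σ x
    · rintro ⟨y, hy, rfl⟩
      rw [Subgroup.mem_centralizer_singleton_iff] at hy
      change σ y * σ z = σ z * σ y
      rw [← map_mul, hy, map_mul]
  rw [h1]
  exact Subgroup.index_map_equiv _ σ

/-- in dimension seven a fundamental involution goes to a fundamental involution or to one with `dim Neg = 2` -/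
theorem neg_aut [Finite F] [FiniteDimensional F V] (h2 : (2 : F) ≠ 0) (hQ : Nondeg Q)
    (hN : finrank F V = 7) {z : ↥(E Q)} (hz : Fund Q z) (σ : MulAut ↥(E Q)) :
    Fund Q (σ z) ∨ finrank F (Cfsg.Agent.H198.IF.Neg (σ z)) = 2 := by
  have hd : 5 ≤ finrank F V := by omega
  have hG : Good Q := Cfsg.Agent.LieClassical.OrthFinite.good_of_finite hQ hd
  have hsq : σ z * σ z = 1 := by rw [← map_mul, hz.sq, map_one]
  obtain ⟨m, hm⟩ := Cfsg.Agent.H601.OTri.neg_even h2 hQ hd hsq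
  have hle : finrank F (Cfsg.Agent.H198.IF.Neg (σ z)) ≤ 7 := hN ▸ Submodule.finrank_le _
  have hc := Cfsg.Agent.H989.Fx.cls_le h2 hG hd hsq (k := m + m) (by rw [← Cfsg.Agent.H601.OTri.neg_eq_Vm, hm])
  rw [index_aut, hN] at hc
  obtain ⟨ε, hT⟩ := Cfsg.Agent.H989.Fx.exists_ty h2 7 V Q hQ hN
  have h7 := Cfsg.Agent.H989.Fx.fund_seven h2 hG hT hz
  have hq : 1 < Nat.card F := Finite.one_lt_card
  have h7' : 2 * (Subgroup.centralizer ({z} : Set ↥(E Q))).index =
      Nat.card F ^ 6 * (Nat.card F ^ 2 + 1) * (Nat.card F ^ 4 + Nat.card F ^ 2 + 1) := by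
    exact_mod_cast h7
  have hbig : Nat.card F ^ 6 < (Subgroup.centralizer ({z} : Set ↥(E Q))).index := by
    have e1 : 1 ≤ Nat.card F ^ 2 := Nat.one_le_pow _ _ (by omega)
    have e2 : 1 ≤ Nat.card F ^ 4 := Nat.one_le_pow _ _ (by omega)
    have e3 : 0 < Nat.card F ^ 6 := by positivity
    have e4 : 2 * 3 ≤ (Nat.card F ^ 2 + 1) * (Nat.card F ^ 4 + Nat.card F ^ 2 + 1) :=
      Nat.mul_le_mul (by omega) (by omega)
    have e5 : Nat.card F ^ 6 * (2 * 3) ≤ 2 * (Subgroup.centralizer ({z} : Set ↥(E Q))).index := by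
      rw [h7', mul_assoc]
      exact Nat.mul_le_mul_left _ e4
    omega
  have hm3 : m ≤ 3 := by omega
  interval_cases m
  · simp at hc
    have : 1 ≤ Nat.card F ^ 6 := Nat.one_le_pow _ _ (by omega)
    omega
  · exact Or.inr hm
  · exact Or.inl (Cfsg.Agent.H601.OTri.fund_of_neg h2 hQ hd hsq hm)
  · norm_num at hc
    omega

/-- BOX 7d -/
theorem unique_fund [Finite F] [FiniteDimensional F V] (h2 : (2 : F) ≠ 0) (hQ : Nondeg Q) [IsSimpleGroup ↥(E Q)]
    (hN : finrank F V = 7) {A : Subgroup ↥(E Q)} {Γ : Subgroup (MulAut ↥(E Q))} (h : IF A Γ)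
    (hno : ∀ t ∈ A, t * t = 1 → finrank F (Cfsg.Agent.H198.IF.Neg t) ≠ 2) {z : ↥(E Q)} (hz : Fund Q z) (hzA : z ∈ A)
    (hu : ∀ s ∈ A, Fund Q s → s = z) : False := by
  have hfix : ∀ σ ∈ Γ, σ z = z := by
    intro σ hσ
    have hA : σ z ∈ A := (h.inv σ hσ z).2 hzA
    rcases neg_aut h2 hQ hN hz σ with h1 | h1
    · exact hu _ hA h1
    · exact absurd h1 (hno _ hA (by rw [← map_mul, hz.sq, map_one]))
  have : Finite V := Module.finite_of_finite F
  have : Finite (V ≃ₗ[F] V) := Finite.of_injective (fun e : V ≃ₗ[F] V => (e : V → V)) DFunLike.coe_injective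
  have hC : ∀ x : ↥(E Q), x * z = z * x → x ∈ A := by
    intro x hx
    refine Cfsg.Agent.H680.Fxy.IF.norm h (K := Subgroup.zpowers z) (by rwa [Subgroup.zpowers_le]) ?_ ?_ ?_
    · rintro σ hσ _ ⟨n, rfl⟩
      exact ⟨n, by simp only [map_zpow, hfix σ hσ]⟩
    · rw [Ne, Subgroup.zpowers_eq_bot]
      exact hz.ne_one h2
    · rintro _ ⟨n, rfl⟩
      refine ⟨n, ?_⟩
      have hcz : Commute x z := hx
      change z ^ n = x * z ^ n * x⁻¹
      rw [(hcz.zpow_right n).eq, mul_inv_cancel_right]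
  obtain ⟨e₁, f₁, e₂, f₂, h4, z1, z2, z3, z4, z5⟩ := hz
  obtain ⟨a, e, f, ht, ⟨a1, a2, a3, a4⟩, ⟨b1, b2, b3, b4⟩, c1, c2, c3, c4⟩ := exists_tri hQ (le_of_eq hN.symm) h4
  obtain ⟨c, hc⟩ := exists_sq F
  refine hno (ht.sig c) (hC _ ?_) (ht.sig_sq hc) (ht.finrank_neg h2 hc)
  have za : ap z a = a := z5 a a1 a2 a3 a4
  have ze : ap z e = e := z5 e b1 b2 b3 b4
  have zf : ap z f = f := z5 f c1 c2 c3 c4
  apply ext_ap
  intro v
  have pa : polar Q a (ap z v) = polar Q a v := by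
    nth_rewrite 1 [← za]
    exact polar_ap z a v
  have pe : polar Q e (ap z v) = polar Q e v := by
    nth_rewrite 1 [← ze]
    exact polar_ap z e v
  have pf : polar Q f (ap z v) = polar Q f v := by
    nth_rewrite 1 [← zf]
    exact polar_ap z f v
  rw [ap_mul, ap_mul, ht.sig_apply, ht.sig_apply, pa, pe, pf, ap_add, ap_add, ap_add, ap_smul, ap_smul, ap_smul, za, ze,
    zf]

end Cfsg.Agent.H100.IF
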